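import Mathlib
import Groth.Prelude.Def_Tame
import Groth.Agent.CycAlgLib.RLen

/-! Distance of lattices over a one-dimensional Noetherian local domain and the order of determinants. -/

set_option autoImplicit false

universe u v

namespace Groth.Agent.LatticeLib24

open Groth.Agent.CycAlgLib

section Ord

variable (A : Type u) [CommRing A] [IsDomain A] [IsNoetherianRing A] [Ring.KrullDimLE 1 A]
  (K : Type v) [Field K] [Algebra A K] [IsFractionRing A K]

theorem ordFrac_mul {x y : K} (hx : x ≠ 0) (hy : y ≠ 0) :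
    CycAlg.ordFrac A K (x * y) = CycAlg.ordFrac A K x + CycAlg.ordFrac A K y := by
  have hc : IsNoetherianRing A ∧ Ring.KrullDimLE 1 A ∧ Nontrivial A ∧ IsFractionRing A K :=
    ⟨inferInstance, inferInstance, inferInstance, inferInstance⟩
  simp only [CycAlg.ordFrac, dif_pos hc, map_mul]
  obtain ⟨a, ha⟩ := WithZero.ne_zero_iff_exists.mp ((map_ne_zero (Ring.ordFrac A (K := K))).mpr hx)
  obtain ⟨b, hb⟩ := WithZero.ne_zero_iff_exists.mp ((map_ne_zero (Ring.ordFrac A (K := K))).mpr hy)
  rw [← ha, ← hb, ← WithZero.coe_mul]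
  rfl

theorem ordFrac_one : CycAlg.ordFrac A K 1 = 0 := by
  have h := ordFrac_mul A K (one_ne_zero : (1 : K) ≠ 0) one_ne_zero
  rw [one_mul] at h
  omega

theorem ordFrac_algebraMap {a : A} (ha : a ≠ 0) :
    CycAlg.ordFrac A K (algebraMap A K a) = ((Ring.ord A a).toNat : ℤ) := by
  have hc : IsNoetherianRing A ∧ Ring.KrullDimLE 1 A ∧ Nontrivial A ∧ IsFractionRing A K :=
    ⟨inferInstance, inferInstance, inferInstance, inferInstance⟩
  simp only [CycAlg.ordFrac, dif_pos hc]
  obtain ⟨m, hm⟩ := ENat.ne_top_iff_exists.mp (Ring.ord_ne_top (mem_nonZeroDivisors_of_ne_zero ha))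
  rw [Ring.ordFrac_eq_ord A ha, Ring.ordMonoidWithZeroHom_eq_coe A (mem_nonZeroDivisors_of_ne_zero ha) hm.symm, ← hm,
    ENat.toNat_natCast]
  rfl

theorem ordFrac_prod {ι : Type*} (s : Finset ι) (f : ι → K) (hf : ∀ i ∈ s, f i ≠ 0) :
    CycAlg.ordFrac A K (∏ i ∈ s, f i) = ∑ i ∈ s, CycAlg.ordFrac A K (f i) := by
  classical
  induction s using Finset.induction_on with
  | empty => simp [ordFrac_one]
  | @insert a s has ih =>
    rw [Finset.prod_insert has, Finset.sum_insert has, ordFrac_mul A K (hf a (Finset.mem_insert_self a s))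
      (Finset.prod_ne_zero_iff.mpr fun i hi ↦ hf i (Finset.mem_insert_of_mem hi)),
      ih fun i hi ↦ hf i (Finset.mem_insert_of_mem hi)]

end Ord

section Dist

variable {A : Type u} [CommRing A] [IsDomain A] [IsNoetherianRing A] [IsLocalRing A] [Ring.KrullDimLE 1 A]
  {K : Type v} [Field K] [Algebra A K] [IsFractionRing A K]
  {V : Type*} [AddCommGroup V] [Module K V] [Module A V] [IsScalarTower A K V] [FiniteDimensional K V]

/-- length(M / M ∩ N) − length(N / M ∩ N). -/
noncomputable def dist (M N : Submodule A V) : ℤ :=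
  ((rlen M (M ⊓ N)).toNat : ℤ) - ((rlen N (M ⊓ N)).toNat : ℤ)

omit [IsDomain A] [IsNoetherianRing A] [IsLocalRing A] [Ring.KrullDimLE 1 A] [FiniteDimensional K V] in
theorem exists_smul_mem (L : Submodule A V) [Submodule.IsLattice K L] (x : V) :
    ∃ a : nonZeroDivisors A, (a : A) • x ∈ L := by
  have hx : x ∈ Submodule.span K (L : Set V) := by
    rw [Submodule.IsLattice.span_eq_top]
    trivial
  refine Submodule.span_induction (p := fun v _ ↦ ∃ a : nonZeroDivisors A, (a : A) • v ∈ L) ?_ ?_ ?_ ?_ hx
  · exact fun v hv ↦ ⟨1, by simpa using hv⟩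
  · exact ⟨1, by simp⟩
  · rintro v w _ _ ⟨a, ha⟩ ⟨b, hb⟩
    refine ⟨a * b, ?_⟩
    rw [smul_add, Submonoid.coe_mul]
    refine add_mem ?_ ?_
    · rw [mul_comm, mul_smul]; exact L.smul_mem _ ha
    · rw [mul_smul]; exact L.smul_mem _ hb
  · rintro c v _ ⟨a, ha⟩
    obtain ⟨⟨n, d⟩, hc⟩ := IsLocalization.surj (nonZeroDivisors A) c
    refine ⟨a * d, ?_⟩
    have : ((a : A) * d) • c • v = n • ((a : A) • v) := by
      rw [← IsScalarTower.algebraMap_smul K ((a : A) * d), smul_smul,
        ← IsScalarTower.algebraMap_smul K (a : A), ← IsScalarTower.algebraMap_smul K n, smul_smul, map_mul,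
        mul_assoc, mul_comm (algebraMap A K (d : A)) c, hc, mul_comm (algebraMap A K n)]
    rw [Submonoid.coe_mul, this]
    exact L.smul_mem _ ha

omit [IsLocalRing A] [Ring.KrullDimLE 1 A] [FiniteDimensional K V] in
theorem isLattice_inf (M N : Submodule A V) [Submodule.IsLattice K M] [Submodule.IsLattice K N] :
    Submodule.IsLattice K (M ⊓ N) := by
  haveI : Module.Finite A M := Submodule.IsLattice.finite K M
  refine ⟨?_, eq_top_iff.mpr ?_⟩
  · haveI : IsNoetherian A ↥(M ⊓ N) := isNoetherian_of_le inf_le_left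
    rw [← Module.Finite.iff_fg]
    infer_instance
  · rw [← Submodule.IsLattice.span_eq_top (A := K) (M := M), Submodule.span_le]
    intro m hm
    obtain ⟨a, ha⟩ := exists_smul_mem (K := K) N m
    have hmem : (algebraMap A K (a : A)) • m ∈ Submodule.span K ((M ⊓ N : Submodule A V) : Set V) :=
      Submodule.subset_span (by rw [algebraMap_smul]; exact ⟨M.smul_mem _ hm, ha⟩)
    have hne : algebraMap A K (a : A) ≠ 0 :=
      (map_ne_zero_iff _ (IsFractionRing.injective A K)).mpr (nonZeroDivisors.coe_ne_zero _)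
    have := Submodule.smul_mem _ (algebraMap A K (a : A))⁻¹ hmem
    rwa [inv_smul_smul₀ hne] at this

omit [IsDomain A] in
include K in
theorem rlen_lt_top (M L : Submodule A V) [Submodule.IsLattice K M] [Submodule.IsLattice K L] :
    rlen M L < ⊤ := by
  haveI : IsDomain A := (IsFractionRing.injective A K).isDomain
  haveI : Module.Finite A M := Submodule.IsLattice.finite K M
  refine length_lt_top_of_support_subset fun p hp ↦ ?_
  by_contra hne
  have hbot : p.asIdeal = ⊥ := by
    by_contra hb
    exact hne (PrimeSpectrum.ext (IsLocalRing.eq_maximalIdeal (p.2.isMaximal_of_ne_bot hb)))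
  obtain ⟨m, hm⟩ := Module.mem_support_iff_exists_annihilator.mp hp
  obtain ⟨x, rfl⟩ := Submodule.Quotient.mk_surjective _ m
  obtain ⟨a, ha⟩ := exists_smul_mem (K := K) L (x : V)
  have hmem : (a : A) ∈ p.asIdeal := hm (Submodule.mem_annihilator_span_singleton _ _ |>.mpr (by
    rw [← Submodule.Quotient.mk_smul, Submodule.Quotient.mk_eq_zero]
    exact ha))
  rw [hbot, Ideal.mem_bot] at hmem
  exact nonZeroDivisors.coe_ne_zero a hmem

theorem dist_eq_sub {M N L : Submodule A V} [Submodule.IsLattice K M] [Submodule.IsLattice K N]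
    [Submodule.IsLattice K L] (hM : L ≤ M) (hN : L ≤ N) :
    dist M N = ((rlen M L).toNat : ℤ) - ((rlen N L).toNat : ℤ) := by
  have h : L ≤ M ⊓ N := le_inf hM hN
  haveI := isLattice_inf (K := K) M N
  rw [dist, rlen_trans h inf_le_left, rlen_trans h inf_le_right,
    ENat.toNat_add (rlen_lt_top (K := K) _ _).ne (rlen_lt_top (K := K) _ _).ne,
    ENat.toNat_add (rlen_lt_top (K := K) _ _).ne (rlen_lt_top (K := K) _ _).ne]
  push_cast
  ring

theorem dist_trans (M N P : Submodule A V) [Submodule.IsLattice K M] [Submodule.IsLattice K N]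
    [Submodule.IsLattice K P] : dist M N + dist N P = dist M P := by
  haveI := isLattice_inf (K := K) M N
  haveI := isLattice_inf (K := K) (M ⊓ N) P
  have hM : M ⊓ N ⊓ P ≤ M := inf_le_left.trans inf_le_left
  have hN : M ⊓ N ⊓ P ≤ N := inf_le_left.trans inf_le_right
  have hP : M ⊓ N ⊓ P ≤ P := inf_le_right
  rw [dist_eq_sub (K := K) hM hN, dist_eq_sub (K := K) hN hP, dist_eq_sub (K := K) hM hP]
  ring

omit [IsDomain A] [IsNoetherianRing A] [IsLocalRing A] [Ring.KrullDimLE 1 A] in
theorem dist_map (M N : Submodule A V) (e : V ≃ₗ[K] V) :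
    dist (M.map (e.toLinearMap.restrictScalars A)) (N.map (e.toLinearMap.restrictScalars A)) = dist M N := by
  have hi : Function.Injective (e.toLinearMap.restrictScalars A) := e.injective
  rw [dist, ← Submodule.map_inf _ hi, rlen_bot_map hi, rlen_bot_map hi]
  rfl

omit [IsDomain A] [IsNoetherianRing A] [IsLocalRing A] [Ring.KrullDimLE 1 A] in
theorem isLattice_map (M : Submodule A V) [Submodule.IsLattice K M] (e : V ≃ₗ[K] V) :
    Submodule.IsLattice K (M.map (e.toLinearMap.restrictScalars A)) :=
  ⟨Submodule.IsLattice.fg.map _, by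
    rw [Submodule.map_coe, show ⇑(e.toLinearMap.restrictScalars A) = ⇑e.toLinearMap from rfl,
      Submodule.span_image, Submodule.IsLattice.span_eq_top, Submodule.map_top, LinearEquiv.range]⟩

/-- The displacement of lattices by an automorphism does not depend on the lattice. -/
theorem dist_map_eq (M N : Submodule A V) [Submodule.IsLattice K M] [Submodule.IsLattice K N] (e : V ≃ₗ[K] V) :
    dist M (M.map (e.toLinearMap.restrictScalars A)) = dist N (N.map (e.toLinearMap.restrictScalars A)) := by
  haveI := isLattice_map (K := K) M e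
  haveI := isLattice_map (K := K) N e
  have h1 := dist_trans (K := K) M N (N.map (e.toLinearMap.restrictScalars A))
  have h2 := dist_trans (K := K) M (M.map (e.toLinearMap.restrictScalars A)) (N.map (e.toLinearMap.restrictScalars A))
  rw [dist_map] at h2
  omega

section Main

variable {n : Type*} [Fintype n] [DecidableEq n]

/-- The lattice spanned by a basis. -/
abbrev lat (b : Module.Basis n K V) : Submodule A V := Submodule.span A (Set.range b)

omit [IsDomain A] [IsNoetherianRing A] [IsLocalRing A] [Ring.KrullDimLE 1 A] in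
theorem isLattice_lat (b : Module.Basis n K V) : Submodule.IsLattice K (lat (A := A) b) :=
  ⟨Submodule.fg_span (Set.finite_range _), by rw [Submodule.span_span_of_tower, b.span_eq]⟩

theorem dist_diagonal_int (b : Module.Basis n K V) (a : n → A) (ha : ∀ i, a i ≠ 0) (e : V ≃ₗ[K] V)
    (he : ∀ i, e (b i) = algebraMap A K (a i) • b i) :
    dist (lat (A := A) b) ((lat (A := A) b).map (e.toLinearMap.restrictScalars A)) =
      ∑ i, CycAlg.ordFrac A K (algebraMap A K (a i)) := by
  set M := lat (A := A) b with hMdef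
  let ψ : (n → A) →ₗ[A] V := Fintype.linearCombination A ⇑b
  have hψ : Function.Injective ψ :=
    (b.linearIndependent.restrict_scalars (fun x y h ↦ IsFractionRing.injective A K (by
      simpa [Algebra.smul_def] using h))).fintypeLinearCombination_injective
  have hM : (⊤ : Submodule A (n → A)).map ψ = M := by
    rw [Submodule.map_top, Fintype.range_linearCombination]
  let P : Submodule A (n → A) := Submodule.pi Set.univ fun i ↦ Ideal.span {a i}
  have hN : P.map ψ = M.map (e.toLinearMap.restrictScalars A) := by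
    rw [← hM, ← Submodule.map_comp]
    apply le_antisymm
    · rintro _ ⟨x, hx, rfl⟩
      choose y hy using fun i ↦ Ideal.mem_span_singleton'.mp (hx i trivial)
      refine ⟨y, trivial, ?_⟩
      simp only [ψ, LinearMap.comp_apply, Fintype.linearCombination_apply, map_sum, map_smul]
      refine Finset.sum_congr rfl fun i _ ↦ ?_
      rw [show (e.toLinearMap.restrictScalars A) (b i) = e (b i) from rfl, he, algebraMap_smul, smul_smul, hy]
    · rintro _ ⟨y, -, rfl⟩
      refine ⟨fun i ↦ y i * a i, fun i _ ↦ Ideal.mem_span_singleton'.mpr ⟨y i, rfl⟩, ?_⟩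
      simp only [ψ, LinearMap.comp_apply, Fintype.linearCombination_apply, map_sum, map_smul]
      refine Finset.sum_congr rfl fun i _ ↦ ?_
      rw [show (e.toLinearMap.restrictScalars A) (b i) = e (b i) from rfl, he, algebraMap_smul, smul_smul]
  have hle : M.map (e.toLinearMap.restrictScalars A) ≤ M := by
    rw [← hN, ← hM]; exact Submodule.map_mono le_top
  rw [dist, inf_eq_right.mpr hle, rlen_eq_zero le_rfl, ← hN, ← hM, rlen_bot_map hψ]
  have hlen : rlen (⊤ : Submodule A (n → A)) P = ∑ i, Ring.ord A (a i) := by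
    have e1 : (↥(⊤ : Submodule A (n → A)) ⧸ P.submoduleOf ⊤) ≃ₗ[A] ((n → A) ⧸ P) :=
      Submodule.Quotient.equiv _ _ Submodule.topEquiv (by
        ext x
        exact ⟨fun ⟨y, hy, h⟩ ↦ h ▸ hy, fun hx ↦ ⟨⟨x, trivial⟩, hx, rfl⟩⟩)
    rw [rlen, e1.length_eq, (Submodule.quotientPi fun i ↦ Ideal.span {a i}).length_eq, Module.length_pi_of_fintype]
    rfl
  rw [hlen, ENat.toNat_zero, Nat.cast_zero, sub_zero]
  simp only [ordFrac_algebraMap A K (ha _)]
  rw [← Nat.cast_sum]
  congr 1
  choose m hm using fun i ↦ ENat.ne_top_iff_exists.mp (Ring.ord_ne_top (R := A) (mem_nonZeroDivisors_of_ne_zero (ha i)))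
  simp only [← hm, ENat.toNat_natCast]
  rw [← Nat.cast_sum, ENat.toNat_natCast]

theorem dist_mul (M : Submodule A V) [Submodule.IsLattice K M] (e f : V ≃ₗ[K] V) :
    dist M (M.map ((f.trans e).toLinearMap.restrictScalars A)) =
      dist M (M.map (e.toLinearMap.restrictScalars A)) + dist M (M.map (f.toLinearMap.restrictScalars A)) := by
  haveI := isLattice_map (K := K) M e
  haveI := isLattice_map (K := K) M f
  haveI := isLattice_map (K := K) M (f.trans e)
  rw [show M.map ((f.trans e).toLinearMap.restrictScalars A) =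
      (M.map (f.toLinearMap.restrictScalars A)).map (e.toLinearMap.restrictScalars A) by
    rw [← Submodule.map_comp]; rfl]
  haveI := isLattice_map (K := K) (M.map (f.toLinearMap.restrictScalars A)) e
  rw [← dist_trans (K := K) M (M.map (e.toLinearMap.restrictScalars A))
    ((M.map (f.toLinearMap.restrictScalars A)).map (e.toLinearMap.restrictScalars A)), dist_map]

theorem dist_diagonal (b : Module.Basis n K V) (f : n → K) (hf : ∀ i, f i ≠ 0) (e : V ≃ₗ[K] V)
    (he : ∀ i, e (b i) = f i • b i) :
    dist (lat (A := A) b) ((lat (A := A) b).map (e.toLinearMap.restrictScalars A)) =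
      ∑ i, CycAlg.ordFrac A K (f i) := by
  haveI := isLattice_lat (A := A) b
  choose p hp using fun i ↦ IsLocalization.surj (nonZeroDivisors A) (f i)
  have hd0 : ∀ i, algebraMap A K ((p i).2 : A) ≠ 0 := fun i ↦
    (map_ne_zero_iff _ (IsFractionRing.injective A K)).mpr (nonZeroDivisors.coe_ne_zero _)
  have hn0 : ∀ i, (p i).1 ≠ 0 := fun i h ↦ by
    have := hp i
    rw [h, map_zero] at this
    exact (mul_ne_zero (hf i) (hd0 i)) this
  let g : V ≃ₗ[K] V := b.equiv (b.unitsSMul fun i ↦ Units.mk0 _ (hd0 i)) (Equiv.refl n)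
  have hg : ∀ i, g (b i) = algebraMap A K ((p i).2 : A) • b i := fun i ↦ by
    rw [Module.Basis.equiv_apply, Equiv.refl_apply, Module.Basis.unitsSMul_apply]
    rfl
  have hge : ∀ i, (g.trans e) (b i) = algebraMap A K (p i).1 • b i := fun i ↦ by
    rw [LinearEquiv.trans_apply, hg, map_smul, he, smul_smul, mul_comm, hp i]
  have h1 := dist_mul (K := K) (lat (A := A) b) e g
  rw [dist_diagonal_int b _ hn0 _ hge, dist_diagonal_int b _ (fun i ↦ nonZeroDivisors.coe_ne_zero _) _ hg] at h1
  have h2 : ∀ i, CycAlg.ordFrac A K (algebraMap A K (p i).1) =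
      CycAlg.ordFrac A K (f i) + CycAlg.ordFrac A K (algebraMap A K ((p i).2 : A)) := fun i ↦ by
    rw [← hp i, ordFrac_mul A K (hf i) (hd0 i)]
  simp only [h2, Finset.sum_add_distrib] at h1
  omega

theorem dist_transvection (b : Module.Basis n K V) (i j : n) (hij : i ≠ j) (c : K) (e : V ≃ₗ[K] V)
    (hej : e (b j) = b j + c • b i) (he : ∀ k, k ≠ j → e (b k) = b k)
    (M₀ : Submodule A V) [Submodule.IsLattice K M₀] :
    dist M₀ (M₀.map (e.toLinearMap.restrictScalars A)) = 0 := by
  obtain ⟨⟨num, den⟩, hc⟩ := IsLocalization.surj (nonZeroDivisors A) c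
  have hd : algebraMap A K (den : A) ≠ 0 :=
    (map_ne_zero_iff _ (IsFractionRing.injective A K)).mpr (nonZeroDivisors.coe_ne_zero _)
  let b' := b.unitsSMul (Function.update (1 : n → Kˣ) j (Units.mk0 _ hd))
  have hb'j : b' j = algebraMap A K (den : A) • b j := by simp [b', Module.Basis.unitsSMul_apply]
  have hb' : ∀ k, k ≠ j → b' k = b k := fun k hk ↦ by simp [b', Module.Basis.unitsSMul_apply, hk]
  haveI := isLattice_lat (A := A) b'
  rw [dist_map_eq (K := K) M₀ (lat (A := A) b') e]
  have hmem : ∀ k, b' k ∈ lat (A := A) b' := fun k ↦ Submodule.subset_span ⟨k, rfl⟩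
  have hej' : e (b' j) = b' j + num • b' i := by
    rw [hb'j, map_smul, hej, smul_add, smul_smul, mul_comm, hc, hb' i hij, algebraMap_smul K num]
  have heq : (lat (A := A) b').map (e.toLinearMap.restrictScalars A) = lat (A := A) b' := by
    apply le_antisymm
    · rw [Submodule.map_le_iff_le_comap, Submodule.span_le]
      rintro _ ⟨k, rfl⟩
      rw [SetLike.mem_coe, Submodule.mem_comap]
      show e (b' k) ∈ _
      rcases eq_or_ne k j with rfl | hk
      · rw [hej']; exact add_mem (hmem _) (Submodule.smul_mem _ _ (hmem _))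
      · rw [hb' k hk, he k hk, ← hb' k hk]; exact hmem _
    · rw [Submodule.span_le]
      rintro _ ⟨k, rfl⟩
      rcases eq_or_ne k j with rfl | hk
      · refine ⟨b' k - num • b' i, sub_mem (hmem _) (Submodule.smul_mem _ _ (hmem _)), ?_⟩
        show e (b' k - num • b' i) = b' k
        rw [map_sub, hej', ← algebraMap_smul K num (b' i), map_smul, hb' i hij, he i hij, algebraMap_smul,
          ← hb' i hij, add_sub_cancel_right]
      · exact ⟨b' k, hmem _, by show e (b' k) = b' k; rw [hb' k hk, he k hk]⟩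
  rw [heq, dist]
  simp

theorem dist_eq_ordFrac_det (M : Submodule A V) [Submodule.IsLattice K M] (e : V ≃ₗ[K] V) :
    dist M (M.map (e.toLinearMap.restrictScalars A)) = CycAlg.ordFrac A K (LinearMap.det e.toLinearMap) := by
  classical
  let b := Module.finBasis K V
  haveI := isLattice_lat (A := A) b
  let X := LinearMap.toMatrix b b e.toLinearMap
  have hX : X.det = LinearMap.det e.toLinearMap := LinearMap.det_toMatrix b _
  have hX0 : X.det ≠ 0 := by rw [hX]; exact e.isUnit_det'.ne_zero
  let P : Matrix (Fin (Module.finrank K V)) (Fin (Module.finrank K V)) K → Prop := fun Y ↦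
    ∀ f : V ≃ₗ[K] V, LinearMap.toMatrix b b f.toLinearMap = Y →
      dist (lat (A := A) b) ((lat (A := A) b).map (f.toLinearMap.restrictScalars A)) = CycAlg.ordFrac A K Y.det
  have hP : P X := by
    refine Matrix.diagonal_transvection_induction_of_det_ne_zero P X hX0 ?_ ?_ ?_
    · intro D hD f hf
      rw [Matrix.det_diagonal] at hD ⊢
      have hD' := Finset.prod_ne_zero_iff.mp hD
      rw [ordFrac_prod A K _ _ hD']
      refine dist_diagonal b D (fun i ↦ hD' i (Finset.mem_univ i)) f fun i ↦ b.repr.injective (Finsupp.ext fun k ↦ ?_)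
      have := congrFun₂ hf k i
      rw [LinearMap.toMatrix_apply] at this
      rw [show b.repr (f (b i)) k = Matrix.diagonal D k i from this]
      simp [Matrix.diagonal_apply, Finsupp.single_apply, eq_comm]
      by_cases h : i = k <;> simp [h]
    · intro t f hf
      rw [Matrix.TransvectionStruct.det, ordFrac_one]
      have key : ∀ k, f (b k) = b k + (if k = t.j then t.c • b t.i else 0) := fun k ↦
        b.repr.injective (Finsupp.ext fun l ↦ by
          have := congrFun₂ hf l k
          rw [LinearMap.toMatrix_apply] at this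
          rw [show b.repr (f (b k)) l = t.toMatrix l k from this, Matrix.TransvectionStruct.toMatrix,
            Matrix.transvection, Matrix.add_apply, Matrix.one_apply, Matrix.single_apply]
          by_cases h : k = t.j <;> by_cases h' : t.i = l <;> by_cases h'' : l = k <;>
            simp_all [Finsupp.single_apply, eq_comm])
      exact dist_transvection b t.i t.j t.hij t.c f (by rw [key]; simp) (fun k hk ↦ by rw [key]; simp [hk]) _
    · intro B C hB hC PB PC f hf
      obtain ⟨g₁, hg₁⟩ : ∃ g : V ≃ₗ[K] V, LinearMap.toMatrix b b g.toLinearMap = B :=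
        ⟨Matrix.toLinearEquiv b B hB.isUnit, LinearMap.toMatrix_toLin b b _⟩
      obtain ⟨g₂, hg₂⟩ : ∃ g : V ≃ₗ[K] V, LinearMap.toMatrix b b g.toLinearMap = C :=
        ⟨Matrix.toLinearEquiv b C hC.isUnit, LinearMap.toMatrix_toLin b b _⟩
      have hfg : f = g₂.trans g₁ := by
        apply LinearEquiv.toLinearMap_injective
        apply (LinearMap.toMatrix b b).injective
        rw [hf]
        show B * C = LinearMap.toMatrix b b (g₁.toLinearMap ∘ₗ g₂.toLinearMap)
        rw [LinearMap.toMatrix_comp b b b, hg₁, hg₂]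
      rw [hfg, dist_mul (K := K), PB g₁ hg₁, PC g₂ hg₂, Matrix.det_mul, ordFrac_mul A K hB hC]
  rw [dist_map_eq (K := K) M (lat (A := A) b) e, ← hX]
  exact hP e rfl

end Main

end Dist

end Groth.Agent.LatticeLib24
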